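import Groth.Agent.Lib.GrpdProper19.Glue
import Groth.Agent.Lib.GrpdQSec19.Main
import Groth.Agent.Lib.GrpdQSecEx19.Exists
import Groth.Agent.Lib.QuotProj11.Chow

/-!
# Quotients of quasi-projective schemes by proper flat groupoids with quasi-finite stabilizers
-/

set_option autoImplicit false
set_option linter.style.haveILetI false
set_option backward.isDefEq.respectTransparency.types false
universe u

open CategoryTheory CategoryTheory.Limits AlgebraicGeometry

noncomputable section

namespace Groth.Agent.GrpdProper19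

open Groth.Agent.GrpQuot Groth.Agent.GrpdB

variable {S : Scheme.{u}} [IsLocallyNoetherian S] (G : Grpd.GroupoidScheme S) [IsProper G.s] [Flat G.s]
  [LocallyQuasiFinite G.j]

theorem exists_closed_in_fibre {X T : Scheme.{u}} (f : X ⟶ T) [QuasiCompact f] (x : X) :
    ∃ z, x ⤳ z ∧ f z = f x ∧ ∀ z', z' ∈ closure ({z} : Set X) → f z' = f z → z' = z := by
  obtain ⟨b, hb⟩ : x ∈ Set.range (f.fiberι (f x)) := by rw [f.range_fiberι]; rfl
  obtain ⟨c, hc, hcc⟩ := IsClosed.exists_closed_singleton (S := closure ({b} : Set (f.fiber (f x))))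
    isClosed_closure ⟨b, subset_closure rfl⟩
  have hf : ∀ a, f (f.fiberι (f x) a) = f x := fun a => by
    have : f.fiberι (f x) a ∈ Set.range (f.fiberι (f x)) := ⟨a, rfl⟩
    rwa [f.range_fiberι] at this
  refine ⟨f.fiberι (f x) c, (specializes_of_eq hb.symm).trans ((specializes_iff_mem_closure.2 hc).map (f.fiberι (f x)).continuous), hf c,
    fun z' hz' he => ?_⟩
  obtain ⟨a, rfl⟩ : z' ∈ Set.range (f.fiberι (f x)) := by rw [f.range_fiberι]; exact he.trans (hf c)
  have h1 : a ∈ closure ({c} : Set (f.fiber (f x))) := specializes_iff_mem_closure.1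
    ((f.fiberι (f x)).isEmbedding.isInducing.specializes_iff.1 (specializes_iff_mem_closure.2 hz'))
  rw [hcc.closure_eq] at h1
  exact congrArg _ h1

theorem flat_t : Flat G.t := by
  haveI := GrpQuot.isIso_i G
  rw [← G.i_s]; infer_instance

theorem isProper_t : IsProper G.t := by
  haveI := GrpQuot.isIso_i G
  rw [← G.i_s]; infer_instance

/-- A chart near every point, with all the local properties. -/
theorem exists_chart (hU : RelProj.IsQuasiProjective G.pU) (x : G.U) :
    ∃ c : Chart G, x ∈ c.W ∧ UniversallyClosed c.p ∧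
      (∀ g : c.M ⟶ S, c.p ≫ g = c.W.ι ≫ G.pU → LocallyOfFiniteType g) ∧
      (Mono G.j → IsPullback (sO G c.W) (tO G c.W c.inv) c.p c.p ∧ Flat c.p) := by
  haveI := hU.1
  haveI := hU.2.1
  haveI := flat_t G
  haveI := isProper_t G
  obtain ⟨z, hxz, -, hz⟩ := exists_closed_in_fibre G.pU x
  obtain ⟨W, hW, hzW, U', u, hu, hfl, hsurj, h2⟩ := GrpdQSecEx19.exists_quasiSection_nhd G hU z hz
  let H := restr G W hW.symm
  haveI : IsImmersion (show U' ⟶ H.U from u) := hu
  haveI : IsFinite (GrpdQSec19.q H u) := hfl.1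
  haveI : Flat (GrpdQSec19.q H u) := hfl.2.1
  haveI : LocallyOfFinitePresentation (GrpdQSec19.q H u) := hfl.2.2
  haveI : Surjective (GrpdQSec19.q H u) := hsurj
  obtain ⟨Y, p, w, -, -, -, hcl, -, hmono, hQ, hLFT⟩ := GrpdQSec19.main' H u (fun E hE => h2 E fun a ha b hb => by
    obtain ⟨r, hr1, hr2⟩ := hE a ha b hb
    refine ⟨(G.s ⁻¹ᵁ W).ι r, ?_, ?_⟩
    · rw [← Scheme.Hom.comp_apply, ← tO_ι G W hW.symm, Scheme.Hom.comp_apply, Scheme.Hom.comp_apply]
      exact congrArg W.ι hr1
    · rw [← Scheme.Hom.comp_apply, ← sO_ι, Scheme.Hom.comp_apply, Scheme.Hom.comp_apply]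
      exact congrArg W.ι hr2)
  have htflat : Flat H.t := by
    show Flat (G.t.resLE W (G.s ⁻¹ᵁ W) hW.ge)
    infer_instance
  have htclosed : UniversallyClosed H.t := by
    show UniversallyClosed (G.t.resLE W (G.s ⁻¹ᵁ W) hW.ge)
    rw [Scheme.Hom.resLE_congr G.t _ rfl hW.symm @UniversallyClosed, Scheme.Hom.resLE_eq_morphismRestrict]
    infer_instance
  have hopen : IsOpenMap H.t.base := by
    haveI := htflat
    haveI : LocallyOfFiniteType H.t := by
      show LocallyOfFiniteType (G.t.resLE W (G.s ⁻¹ᵁ W) hW.ge)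
      infer_instance
    haveI : IsLocallyNoetherian G.U := LocallyOfFiniteType.isLocallyNoetherian G.pU
    haveI : IsLocallyNoetherian H.U := inferInstanceAs (IsLocallyNoetherian W.toScheme)
    haveI : UniversallyOpen H.t := inferInstance
    exact H.t.isOpenMap
  have hslft : LocallyOfFiniteType H.s := by
    show LocallyOfFiniteType (G.s ∣_ W)
    infer_instance
  have hQ' : IsQuot G W.ι p := IsQuot.of_restr G W hW.symm (hQ hslft hopen)
  let c : Chart G := ⟨W, hW.symm, Y, p, hQ'⟩
  obtain ⟨e, he⟩ := hQ'.exists_iso c.isQuot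
  refine ⟨c, hxz.mem_open W.2 hzW, ?_, fun g hg => ?_, fun hm => ?_⟩
  · haveI := hcl htclosed
    rw [← he]
    exact MorphismProperty.comp_mem @UniversallyClosed _ _ (hcl htclosed) inferInstance
  · have h1 : LocallyOfFiniteType (e.hom ≫ g) := hLFT _ (by
      exact ((Category.assoc _ _ _).symm.trans (congrArg (· ≫ g) he)).trans hg) inferInstance (by
      show LocallyOfFiniteType (W.ι ≫ G.pU)
      infer_instance)
    exact (MorphismProperty.cancel_left_of_respectsIso @LocallyOfFiniteType e.hom g).1 h1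
  · haveI := hm
    haveI : Mono H.j := mono_j_restr W hW.symm
    obtain ⟨hpb, hflat⟩ := hmono inferInstance
    haveI := hflat htflat
    rw [← he]
    refine ⟨?_, MorphismProperty.comp_mem @Flat _ _ (hflat htflat) inferInstance⟩
    exact hpb.flip.of_iso (Iso.refl _) (Iso.refl _) (Iso.refl _) e
      (by simp [H, restr]; rfl) (by simp [H, restr]; rfl) (Category.id_comp (p ≫ e.hom)).symm (Category.id_comp (p ≫ e.hom)).symm

theorem exists_quotient (hU : RelProj.IsQuasiProjective G.pU) [IsSeparated G.pU] :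
    ∃ (Y : Scheme.{u}) (p : G.U ⟶ Y) (w : G.t ≫ p = G.s ≫ p) (q : Y ⟶ S),
      Nonempty (IsColimit (Cofork.ofπ p w)) ∧ p ≫ q = G.pU ∧ Surjective p ∧ IsOpenMap p.base ∧ IsProper p ∧
      LocallyOfFinitePresentation p ∧ IsSeparated q ∧ LocallyOfFinitePresentation q ∧ QuasiCompact q ∧
      Function.Surjective (pullback.lift G.t G.s w).base ∧
      (Mono G.j → IsPullback G.t G.s p p ∧ Flat p) := by
  haveI := hU.1
  haveI := hU.2.1
  have hch := exists_chart G hU
  have hcov : ∀ x : G.U, ∃ c : Chart G, x ∈ c.W := fun x =>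
    let ⟨c, hc, _⟩ := hch x
    ⟨c, hc⟩
  let p := toGlued hcov
  have w : G.t ≫ p = G.s ≫ p := t_toGlued hcov
  obtain ⟨q, hq, -⟩ := exists_desc_glued hcov G.pU (by rw [G.t_over, G.s_over])
  haveI hps : Surjective p := surjective_toGlued hcov
  haveI hpcl : UniversallyClosed p := toGlued_of_charts hcov @UniversallyClosed fun x =>
    let ⟨c, hc, h1, _⟩ := hch x
    ⟨c, hc, h1⟩
  haveI hqlft : LocallyOfFiniteType q := by
    choose c hc _ hl _ using hch
    let 𝒱 : (Quot G).OpenCover := Scheme.Cover.mkOfCovers G.U (fun x => (c x).M) (fun x => (c x).ι) (fun y => by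
      obtain ⟨x, rfl⟩ := (surjective_toGlued hcov).surj y
      exact ⟨x, (c x).p ⟨x, hc x⟩, (toGlued_apply hcov (c x) ⟨x, hc x⟩).symm⟩) (fun _ => inferInstance)
    refine IsZariskiLocalAtSource.of_openCover (P := @LocallyOfFiniteType) 𝒱 fun x => hl x _ ?_
    show (c x).p ≫ (c x).ι ≫ q = _
    rw [← Category.assoc, ← ι_toGlued hcov, Category.assoc]
    exact congrArg ((c x).W.ι ≫ ·) hq
  haveI hqqc : QuasiCompact q := by
    haveI : QuasiCompact (p ≫ q) := by rw [hq]; infer_instance
    refine ⟨fun V hV hVc => ?_⟩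
    have := (QuasiCompact.isCompact_preimage (f := p ≫ q) V hV hVc).image p.continuous
    convert this using 1
    exact (Set.image_preimage_eq _ hps.surj).symm
  have hlift : Function.Surjective (pullback.lift G.t G.s w).base := surjective_lift_glued hcov
  haveI hqsep : IsSeparated q := by
    haveI : IsProper (pullback.lift G.t G.s (show G.t ≫ G.pU = G.s ≫ G.pU by rw [G.t_over, G.s_over])) := by
      haveI : IsProper (pullback.lift G.t G.s (show G.t ≫ G.pU = G.s ≫ G.pU by rw [G.t_over, G.s_over]) ≫
          pullback.snd G.pU G.pU) := by rw [pullback.lift_snd]; infer_instance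
      exact IsProper.of_comp _ (pullback.snd G.pU G.pU)
    set J := pullback.lift G.t G.s (show G.t ≫ G.pU = G.s ≫ G.pU by rw [G.t_over, G.s_over])
    let P2 : pullback G.pU G.pU ⟶ pullback q q := pullback.map G.pU G.pU q q p p (𝟙 S)
      (by rw [Category.comp_id]; exact hq.symm) (by rw [Category.comp_id]; exact hq.symm)
    haveI : UniversallyClosed P2 :=
      MorphismProperty.pullbackMap (P := @UniversallyClosed) hpcl hpcl hq.symm hq.symm
    have hcl : IsClosed (Set.range (pullback.diagonal q)) := by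
      have e : J ≫ P2 = G.t ≫ p ≫ pullback.diagonal q := by
        refine pullback.hom_ext ?_ ?_
        · simp only [J, P2, pullback.map, Category.assoc, pullback.lift_fst, pullback.lift_fst_assoc,
            pullback.diagonal_fst, Category.comp_id]
        · simp only [J, P2, pullback.map, Category.assoc, pullback.lift_snd, pullback.lift_snd_assoc,
            pullback.diagonal_snd, Category.comp_id]
          exact w.symm
      haveI : Surjective G.t := ⟨fun x => ⟨G.e x, GrpdB.t_e x⟩⟩
      have : Set.range (pullback.diagonal q) = Set.range (J ≫ P2) := by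
        rw [e]
        simp only [Scheme.Hom.comp_base, TopCat.coe_comp, Set.range_comp, (Surjective.surj (f := G.t)).range_eq,
          Set.image_univ, hps.surj.range_eq]
      rw [this]
      haveI : UniversallyClosed (J ≫ P2) := inferInstance
      exact (J ≫ P2).isClosedMap.isClosed_range
    exact ⟨IsClosedImmersion.of_isPreimmersion _ hcl⟩
  haveI : IsSeparated (p ≫ q) := by rw [hq]; infer_instance
  haveI : IsSeparated p := IsSeparated.of_comp p q
  haveI : LocallyOfFiniteType (p ≫ q) := by rw [hq]; infer_instance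
  haveI : LocallyOfFiniteType p := locallyOfFiniteType_of_comp p q
  haveI : IsLocallyNoetherian (Quot G) := LocallyOfFiniteType.isLocallyNoetherian q
  haveI : QuasiCompact p := inferInstance
  refine ⟨Quot G, p, w, q, ⟨Cofork.IsColimit.ofExistsUnique fun s => ?_⟩, hq, hps, isOpenMap_toGlued hcov,
    ⟨⟩, inferInstance, hqsep, inferInstance, hqqc, hlift, fun hm => ?_⟩
  · exact exists_desc_glued hcov s.π s.condition
  · haveI := hm
    exact ⟨isPullback_of_charts hcov fun x =>
        let ⟨c, hc, _, _, h⟩ := hch x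
        ⟨c, hc, (h hm).1⟩,
      toGlued_of_charts hcov @Flat fun x =>
        let ⟨c, hc, _, _, h⟩ := hch x
        ⟨c, hc, (h hm).2⟩⟩

end Groth.Agent.GrpdProper19
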