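import Groth.Agent.Lib.GrpQuot.EquivRel

/-!
# Local properties of a glued quotient
-/

set_option autoImplicit false
set_option linter.style.haveILetI false
set_option backward.isDefEq.respectTransparency.types false
universe u

open CategoryTheory CategoryTheory.Limits AlgebraicGeometry

noncomputable section

namespace Groth.Agent.GrpdProper19

open Groth.Agent.GrpQuot Groth.Agent.GrpdB

variable {S : Scheme.{u}} {G : Grpd.GroupoidScheme S} (hcov : ∀ x : G.U, ∃ c : Chart G, x ∈ c.W)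

theorem toGlued_of_charts (P : MorphismProperty Scheme.{u}) [IsZariskiLocalAtTarget P]
    (h : ∀ x : G.U, ∃ c : Chart G, x ∈ c.W ∧ P c.p) : P (toGlued hcov) := by
  choose c hc hP using h
  let 𝒱 : (Quot G).OpenCover := Scheme.Cover.mkOfCovers G.U (fun x => (c x).M) (fun x => (c x).ι) (fun y => by
    obtain ⟨x, rfl⟩ := (surjective_toGlued hcov).surj y
    exact ⟨x, (c x).p ⟨x, hc x⟩, (toGlued_apply hcov (c x) ⟨x, hc x⟩).symm⟩) (fun _ => inferInstance)
  refine IsZariskiLocalAtTarget.of_openCover 𝒱 fun x => ?_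
  show P (pullback.snd (toGlued hcov) (c x).ι)
  rw [← (isPullback_toGlued hcov (c x)).flip.isoPullback_inv_snd]
  exact (P.cancel_left_of_respectsIso _ _).2 (hP x)

theorem isPullback_of_charts [Mono G.j]
    (h : ∀ x : G.U, ∃ c : Chart G, x ∈ c.W ∧ IsPullback (sO G c.W) (tO G c.W c.inv) c.p c.p) :
    IsPullback G.t G.s (toGlued hcov) (toGlued hcov) := by
  choose c hc hpb using h
  have key : ∀ (T : Scheme.{u}) (x y : T ⟶ G.U), x ≫ toGlued hcov = y ≫ toGlued hcov →
      ∃ r : T ⟶ G.R, r ≫ G.t = x ∧ r ≫ G.s = y := by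
    intro T x y h
    let O : T → T.Opens := fun z => x ⁻¹ᵁ (c (x z)).W
    have hyO : ∀ z w, w ∈ O z → y w ∈ (c (x z)).W := by
      intro z w hw
      have := congr($(h) w)
      rw [Scheme.Hom.comp_apply, Scheme.Hom.comp_apply] at this
      obtain ⟨r, h1, h2⟩ := (toGlued_eq_iff hcov _ _).1 this
      exact (mem_iff_of_arrow (c (x z)).inv h1 h2).1 hw
    let a : ∀ z, (O z).toScheme ⟶ (c (x z)).W.toScheme := fun z => x.resLE _ _ le_rfl
    let b : ∀ z, (O z).toScheme ⟶ (c (x z)).W.toScheme := fun z => y.resLE _ _ (hyO z)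
    have hab : ∀ z, b z ≫ (c (x z)).p = a z ≫ (c (x z)).p := fun z => by
      rw [← cancel_mono (c (x z)).ι, Category.assoc, Category.assoc, ← ι_toGlued hcov]
      simp only [a, b, Scheme.Hom.resLE_comp_ι_assoc, h]
    let r : ∀ z, (O z).toScheme ⟶ G.R := fun z =>
      (hpb (x z)).lift (b z) (a z) (hab z) ≫ (G.s ⁻¹ᵁ (c (x z)).W).ι
    have hr : ∀ z, r z ≫ G.t = (O z).ι ≫ x ∧ r z ≫ G.s = (O z).ι ≫ y := fun z =>
      ⟨(comp_tO G _ (c (x z)).inv ((hpb (x z)).lift_snd _ _ _)).trans (Scheme.Hom.resLE_comp_ι _ _),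
       (comp_sO G _ ((hpb (x z)).lift_fst _ _ _)).trans (Scheme.Hom.resLE_comp_ι _ _)⟩
    clear_value r
    let 𝒰 : T.OpenCover := Scheme.Cover.mkOfCovers T (fun z => (O z).toScheme) (fun z => (O z).ι)
      (fun z => ⟨z, ⟨z, hc (x z)⟩, rfl⟩) (fun _ => inferInstance)
    have hcompat : ∀ i j : T, pullback.fst (O i).ι (O j).ι ≫ r i = pullback.snd (O i).ι (O j).ι ≫ r j := by
      intro i j
      apply hom_ext_of_mono_j
      · rw [Category.assoc, Category.assoc, (hr i).1, (hr j).1, pullback.condition_assoc]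
      · rw [Category.assoc, Category.assoc, (hr i).2, (hr j).2, pullback.condition_assoc]
    refine ⟨𝒰.glueMorphisms r hcompat, ?_, ?_⟩
    · refine 𝒰.hom_ext _ _ fun z => ?_
      rw [Scheme.Cover.ι_glueMorphisms_assoc]
      exact (hr z).1
    · refine 𝒰.hom_ext _ _ fun z => ?_
      rw [Scheme.Cover.ι_glueMorphisms_assoc]
      exact (hr z).2
  have key' := fun (s : PullbackCone (toGlued hcov) (toGlued hcov)) => key _ s.fst s.snd s.condition
  exact ⟨⟨t_toGlued hcov⟩, ⟨PullbackCone.IsLimit.mk _ (fun s => (key' s).choose) (fun s => (key' s).choose_spec.1)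
    (fun s => (key' s).choose_spec.2)
    fun s m h1 h2 => hom_ext_of_mono_j (h1.trans (key' s).choose_spec.1.symm) (h2.trans (key' s).choose_spec.2.symm)⟩⟩

theorem mono_j_restr [Mono G.j] (O : G.U.Opens) (hO : G.s ⁻¹ᵁ O = G.t ⁻¹ᵁ O) : Mono (restr G O hO).j :=
  ⟨fun a b h => restr_ext O hO a b (GrpdB.s_eq_of_comp_j h) (GrpdB.t_eq_of_comp_j h)⟩

end Groth.Agent.GrpdProper19
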